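import Groth.Agent.L11.BlowSmooth.Alg
import Groth.Agent.L13.BlowUp.Exists
import Groth.Agent.L13.BlowUp.Proj
import Mathlib.AlgebraicGeometry.Morphisms.Smooth

/-!
# Closed subschemes in affine charts, blow-up charts on affine opens
-/

set_option autoImplicit false
set_option linter.style.haveILetI false
set_option backward.isDefEq.respectTransparency false
set_option backward.isDefEq.respectTransparency.types false

universe u

open CategoryTheory CategoryTheory.Limits AlgebraicGeometry TopologicalSpace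
open Groth.L22 Groth.L13.BU

namespace Groth.L11.BlowSmooth

theorem exists_preimage {P Y Z W : Scheme.{u}} {fst : P ⟶ Y} {snd : P ⟶ Z} {g : Y ⟶ W} {h : Z ⟶ W}
    (hpb : IsPullback fst snd g h) (y : Y) (z : Z) (e : g y = h z) :
    ∃ w : P, fst w = y ∧ snd w = z := by
  obtain ⟨w, hw1, hw2⟩ := Scheme.Pullback.exists_preimage_pullback (f := g) (g := h) y z e
  refine ⟨hpb.isoPullback.inv w, ?_, ?_⟩
  · rw [← Scheme.Hom.comp_apply, IsPullback.isoPullback_inv_fst, hw1]
  · rw [← Scheme.Hom.comp_apply, IsPullback.isoPullback_inv_snd, hw2]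

theorem ker_SpecMap_mk {A : Type u} [CommRing A] (I : Ideal A) :
    (Spec.map (CommRingCat.ofHom (Ideal.Quotient.mk I))).ker = idealOf I := by
  refine Scheme.IdealSheafData.ext_of_isAffine ?_
  rw [idealOf_top, Scheme.Hom.ker_apply]
  let e := (Scheme.ΓSpecIso (CommRingCat.of A)).commRingCatIsoToRingEquiv
  let e' := (Scheme.ΓSpecIso (CommRingCat.of (A ⧸ I))).commRingCatIsoToRingEquiv
  ext s
  have hnat : e' ((Spec.map (CommRingCat.ofHom (Ideal.Quotient.mk I))).appTop s) = Ideal.Quotient.mk I (e s) :=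
    congrArg (fun φ => φ.hom s) (Scheme.ΓSpecIso_naturality (CommRingCat.ofHom (Ideal.Quotient.mk I)))
  show (Spec.map (CommRingCat.ofHom (Ideal.Quotient.mk I))).appTop s = 0 ↔ s ∈ I.map e.symm.toRingHom
  rw [← map_eq_zero_iff e' e'.injective, hnat, Ideal.Quotient.eq_zero_iff_mem]
  show _ ↔ s ∈ I.map e.symm
  rw [Ideal.map_symm]
  rfl

/-- A closed subscheme on an affine chart. -/
theorem exists_closed_chart {Z X : Scheme.{u}} (i : Z ⟶ X) [IsClosedImmersion i] {A : Type u}
    [CommRing A] (j : Spec (CommRingCat.of A) ⟶ X) [IsOpenImmersion j] (I : Ideal A)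
    (hI : i.ker.comap j = idealOf I) :
    ∃ (q : Spec (CommRingCat.of (A ⧸ I)) ⟶ Z), IsOpenImmersion q ∧
      q ≫ i = Spec.map (CommRingCat.ofHom (Ideal.Quotient.mk I)) ≫ j ∧
      ∀ z : Z, i z ∈ Set.range j → z ∈ Set.range q := by
  haveI : IsClosedImmersion (Spec.map (CommRingCat.ofHom (Ideal.Quotient.mk I))) :=
    IsClosedImmersion.spec_of_surjective _ Ideal.Quotient.mk_surjective
  let m := Spec.map (CommRingCat.ofHom (Ideal.Quotient.mk I))
  have hle : i.ker ≤ (m ≫ j).ker := by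
    rw [← Scheme.IdealSheafData.map_ker, Scheme.IdealSheafData.le_map_iff_comap_le, hI,
      ker_SpecMap_mk]
  let q := IsClosedImmersion.lift i (m ≫ j) hle
  have hq : q ≫ i = m ≫ j := IsClosedImmersion.lift_fac _ _ _
  have hpb : IsPullback m q j i :=
    isPullback_of_isClosedImmersion m i q j hq.symm (by rw [hI, ker_SpecMap_mk])
  refine ⟨q, MorphismProperty.of_isPullback hpb ‹IsOpenImmersion j›, hq, fun z hz => ?_⟩
  obtain ⟨a, ha⟩ := hz
  obtain ⟨w, -, hw⟩ := exists_preimage hpb a z ha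
  exact ⟨w, hw⟩

theorem comap_fromSpec {X : Scheme.{u}} (J : X.IdealSheafData) (U : X.affineOpens) :
    J.comap U.2.fromSpec = idealOf (J.ideal U) := by
  refine Scheme.IdealSheafData.ext_of_isAffine ?_
  rw [idealOf_top, Ideals.comap_ideal U.2.fromSpec J U ⟨⊤, isAffineOpen_top _⟩
    (by rw [U.2.fromSpec_preimage_self])]
  congr 1
  rw [Scheme.Hom.appLE, U.2.fromSpec_app_self, Category.assoc, ← Functor.map_comp,
    CommRingCat.hom_comp]
  simp
  rfl

/-- A point of the blow-up over an affine open lies in the chart of one of any generators. -/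
theorem exists_blowUp_chart {X X' : Scheme.{u}} (b : X' ⟶ X) (J : X.IdealSheafData)
    (hb : BlowUp.IsBlowUp b J) (U : X.affineOpens) {c : ℕ} (f : Fin c → Γ(X, U.1))
    (hf : J.ideal U = sI f) (x' : X') (hx' : b x' ∈ U.1) :
    ∃ (k : Fin c) (j : Spec (CommRingCat.of (SC f k)) ⟶ X'), IsOpenImmersion j ∧
      x' ∈ Set.range j ∧ j ≫ b = Spec.map (CommRingCat.ofHom (sh f k)) ≫ U.2.fromSpec := by
  let I : Ideal Γ(X, U.1) := sI f
  have hJ : J.comap U.2.fromSpec = idealOf I := by rw [comap_fromSpec, hf]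
  have hb₁ : BlowUp.IsBlowUp (reesToSpec I) (J.comap U.2.fromSpec) := hJ ▸ isBlowUp_rees I
  obtain ⟨k, hk, -⟩ := hb.2 _ (reesToSpec I ≫ U.2.fromSpec) (by
    rw [Scheme.IdealSheafData.comap_comp]; exact hb₁.1)
  have hpb := isPullback_of_blowUps U.2.fromSpec hb hb₁ k hk
  haveI : IsOpenImmersion k := MorphismProperty.of_isPullback hpb
    (inferInstance : IsOpenImmersion U.2.fromSpec)
  obtain ⟨a, ha⟩ : b x' ∈ Set.range U.2.fromSpec := U.2.range_fromSpec.ge hx'
  obtain ⟨p, -, hp⟩ := exists_preimage hpb a x' ha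
  obtain ⟨⟨a₀, ha₀⟩, hpa⟩ := Opens.mem_iSup.1 ((iSup_chart I).ge (Set.mem_univ p))
  obtain ⟨i, hi⟩ : ∃ i : Fin c, p ∈ Proj.basicOpen (Rees.deg (reesAlgebra I))
      (mon I 1 (f i) (mem_pow_one f i)) := by
    by_contra hall
    push Not at hall
    simp only [Proj.mem_basicOpen, not_not] at hall
    rw [Proj.mem_basicOpen] at hpa
    apply hpa
    obtain ⟨r, hr⟩ := Ideal.mem_span_range_iff_exists_fun.1
      (by simpa using ha₀ : a₀ ∈ Ideal.span (Set.range f))
    have he : mon I 1 a₀ ha₀ = ∑ i, r i • mon I 1 (f i) (mem_pow_one f i) := by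
      apply Subtype.ext
      subst hr
      simp [mon, map_sum, Polynomial.smul_monomial]
    rw [he]
    refine Ideal.sum_mem _ fun i _ => ?_
    rw [Algebra.smul_def]
    exact Ideal.mul_mem_left _ _ (hall i)
  refine ⟨i, chartι I (f i) (mem_pow_one f i) ≫ k, inferInstance, ?_, ?_⟩
  · obtain ⟨w, hw⟩ : p ∈ (chartι I (f i) (mem_pow_one f i)).opensRange := by
      rw [Proj.opensRange_awayι]; exact hi
    exact ⟨w, by rw [Scheme.Hom.comp_apply]; exact (congrArg k hw).trans hp⟩
  · rw [Category.assoc, hk, ← Category.assoc, chartι_reesToSpec]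

/-- A piece of the exceptional divisor that is smooth over the centre. -/
theorem exists_smooth_piece {E Y X' X : Scheme.{u}} (i : Y ⟶ X) [IsClosedImmersion i]
    (b : X' ⟶ X) (ι : E ⟶ X') [IsClosedImmersion ι] (g : E ⟶ Y) (hg : g ≫ i = ι ≫ b)
    (hker : ι.ker = i.ker.comap b) {A C : Type u} [CommRing A] [CommRing C] (I : Ideal A)
    (φ : A →+* C) (p : Spec (CommRingCat.of A) ⟶ X) [IsOpenImmersion p]
    (hI : i.ker.comap p = idealOf I) (j : Spec (CommRingCat.of C) ⟶ X') [IsOpenImmersion j]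
    (hjb : j ≫ b = Spec.map (CommRingCat.ofHom φ) ≫ p) (e : E) (he : ι e ∈ Set.range j)
    (hsm : (Ideal.Quotient.lift I ((Ideal.Quotient.mk (I.map φ)).comp φ)
      fun a ha => Ideal.Quotient.eq_zero_iff_mem.2 (Ideal.mem_map_of_mem _ ha)).Smooth) :
    ∃ (W : Scheme.{u}) (q : W ⟶ E), IsOpenImmersion q ∧ e ∈ Set.range q ∧ Smooth (q ≫ g) := by
  have hkj : ι.ker.comap j = idealOf (I.map φ) := by
    rw [hker, ← Scheme.IdealSheafData.comap_comp, hjb, Scheme.IdealSheafData.comap_comp, hI]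
    refine Scheme.IdealSheafData.ext_of_isAffine ?_
    rw [comap_SpecMap, idealOf_top]
  obtain ⟨q, hqo, hqι, hqc⟩ := exists_closed_chart ι j _ hkj
  obtain ⟨v, hvo, hvi, -⟩ := exists_closed_chart i p _ hI
  haveI := hvo
  refine ⟨_, q, hqo, hqc e he, ?_⟩
  have hfac : q ≫ g = Spec.map (CommRingCat.ofHom (Ideal.Quotient.lift I
      ((Ideal.Quotient.mk (I.map φ)).comp φ)
      fun a ha => Ideal.Quotient.eq_zero_iff_mem.2 (Ideal.mem_map_of_mem _ ha))) ≫ v := by
    rw [← cancel_mono i, Category.assoc, hg, reassoc_of% hqι, hjb, Category.assoc, hvi,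
      ← Category.assoc, ← Category.assoc, ← Spec.map_comp, ← Spec.map_comp]
    rfl
  haveI := (HasRingHomProperty.Spec_iff (P := @Smooth) (φ := CommRingCat.ofHom (Ideal.Quotient.lift I
      ((Ideal.Quotient.mk (I.map φ)).comp φ)
      fun a ha => Ideal.Quotient.eq_zero_iff_mem.2 (Ideal.mem_map_of_mem _ ha)))).2 hsm
  rw [hfac]
  infer_instance

end Groth.L11.BlowSmooth
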