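import Groth.Agent.L13.BlowUp.ReesChart
import Groth.Agent.L07.QuasiRegular
import Mathlib.RingTheory.Smooth.Basic
import Mathlib.RingTheory.RingHom.Smooth

/-!
# Charts of the blow-up in a regular ideal, modulo the exceptional divisor
-/

set_option autoImplicit false
set_option linter.style.haveILetI false
set_option backward.isDefEq.respectTransparency false
set_option backward.isDefEq.respectTransparency.types false

universe u

open MvPolynomial Groth.L13.BU

namespace Groth.L11.BlowSmooth

variable {A : Type u} [CommRing A] {c : ℕ} (f : Fin c → A) (i : Fin c)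

/-- The ideal of the sequence. -/
abbrev sI : Ideal A := Ideal.span (Set.range f)

theorem mem_pow_one (j : Fin c) : f j ∈ sI f ^ 1 := by
  rw [pow_one]; exact Ideal.subset_span ⟨j, rfl⟩

/-- The chart at the `i`-th generator. -/
abbrev SC : Type u := Chart (sI f) (f i) (mem_pow_one f i)

/-- Its structure map. -/
noncomputable abbrev sh : A →+* SC f i := chartHom (sI f) (f i) (mem_pow_one f i)

/-- The fraction `f j / f i`. -/
noncomputable abbrev sfr (j : Fin c) : SC f i :=
  frac (sI f) (f i) (mem_pow_one f i) 1 (f j) (mem_pow_one f j)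

/-- The substitution `T j ↦ T j`, `T i ↦ 1`. -/
noncomputable def dehom : MvPolynomial (Fin c) A →ₐ[A] MvPolynomial {j // j ≠ i} A :=
  aeval fun j => if h : j = i then 1 else X ⟨j, h⟩

/-- Evaluation at the fractions. -/
noncomputable def ev : MvPolynomial (Fin c) A →+* SC f i := eval₂Hom (sh f i) (sfr f i)

theorem eq_one_of_mul_eq {S : Type*} [CommRing S] {t x : S} (ht : t ∈ nonZeroDivisors S)
    (h : t = t * x) : x = 1 :=
  (mul_cancel_left_mem_nonZeroDivisors ht).1 (by rw [mul_one]; exact h.symm)

theorem ev_X_self : ev f i (X i) = 1 := by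
  rw [ev, eval₂Hom_X']
  exact eq_one_of_mul_eq (chartHom_nonZeroDivisor (sI f) (f i) (mem_pow_one f i))
    (chartHom_eq (sI f) (f i) (mem_pow_one f i) (f i) (mem_pow_one f i))

theorem ev_rename_dehom (F : MvPolynomial (Fin c) A) :
    ev f i (rename Subtype.val (dehom i F)) = ev f i F := by
  induction F using MvPolynomial.induction_on with
  | C r => simp [dehom]
  | add p q hp hq => simp only [map_add, hp, hq]
  | mul_X p j hp =>
    simp only [map_mul, hp]
    congr 1
    rw [dehom, aeval_X]
    split_ifs with h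
    · subst h; rw [map_one, map_one, ev_X_self]
    · rw [rename_X]

theorem pow_mul_eval₂ {S : Type*} [CommRing S] (φ : A →+* S) (t : S) (y : Fin c → S)
    (h : ∀ j, φ (f j) = t * y j) {N : ℕ} {F : MvPolynomial (Fin c) A} (hF : F.IsHomogeneous N) :
    t ^ N * eval₂Hom φ y F = φ (eval f F) := by
  rw [F.as_sum, map_sum, map_sum, map_sum, Finset.mul_sum]
  refine Finset.sum_congr rfl fun d hd => ?_
  have hdeg : ∑ j, d j = N := by
    simpa [Finsupp.weight_apply, Finsupp.sum_fintype] using hF (mem_support_iff.1 hd)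
  rw [eval₂Hom_monomial, eval_monomial, map_mul,
    Finsupp.prod_fintype _ _ (fun j => pow_zero _), Finsupp.prod_fintype _ _ (fun j => pow_zero _),
    map_prod, mul_left_comm, ← hdeg, ← Finset.prod_pow_eq_pow_sum, ← Finset.prod_mul_distrib]
  congr 1
  refine Finset.prod_congr rfl fun j _ => ?_
  rw [map_pow, ← mul_pow, h]

theorem pow_mul_ev {N : ℕ} {F : MvPolynomial (Fin c) A} (hF : F.IsHomogeneous N) :
    sh f i (f i) ^ N * ev f i F = sh f i (eval f F) :=
  pow_mul_eval₂ f (sh f i) _ (sfr f i)
    (fun j => chartHom_eq (sI f) (f i) (mem_pow_one f i) (f j) (mem_pow_one f j)) hF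

/-- The presentation of the chart modulo the exceptional divisor. -/
noncomputable def pres : MvPolynomial {j // j ≠ i} (A ⧸ sI f) →+*
    SC f i ⧸ (sI f).map (sh f i) :=
  eval₂Hom (Ideal.Quotient.lift (sI f) ((Ideal.Quotient.mk _).comp (sh f i))
    fun a ha => Ideal.Quotient.eq_zero_iff_mem.2 (Ideal.mem_map_of_mem _ ha))
    fun j => Ideal.Quotient.mk _ (sfr f i j)

theorem pres_map (P : MvPolynomial {j // j ≠ i} A) :
    pres f i (map (Ideal.Quotient.mk (sI f)) P) =
      Ideal.Quotient.mk _ (ev f i (rename Subtype.val P)) := by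
  induction P using MvPolynomial.induction_on with
  | C r => simp [pres, ev]
  | add p q hp hq => simp only [map_add, hp, hq]
  | mul_X p j hp =>
    simp only [map_mul, hp]
    congr 1
    simp [pres, ev]

theorem pres_injective (hf : CAlgX.IsQuasiRegular f) : Function.Injective (pres f i) := by
  rw [injective_iff_map_eq_zero]
  intro P hP
  obtain ⟨P₀, rfl⟩ := map_surjective (σ := {j // j ≠ i}) (Ideal.Quotient.mk (sI f))
    Ideal.Quotient.mk_surjective P
  rw [pres_map, Ideal.Quotient.eq_zero_iff_mem, map_ideal, Ideal.mem_span_singleton'] at hP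
  obtain ⟨z, hz⟩ := hP
  obtain ⟨m, w, hw, rfl⟩ := frac_surjective (sI f) (f i) (mem_pow_one f i) z
  let P' : MvPolynomial (Fin c) A := rename Subtype.val P₀
  let N := P'.totalDegree
  let F : MvPolynomial (Fin c) A :=
    ∑ l ∈ Finset.range (N + 1), X i ^ (N - l) * homogeneousComponent l P'
  have hFhom : F.IsHomogeneous N := IsHomogeneous.sum _ _ _ fun l hl => by
    have := ((isHomogeneous_X A i).pow (N - l)).mul (homogeneousComponent_isHomogeneous l P')
    rwa [one_mul, Nat.sub_add_cancel (Nat.lt_succ_iff.mp (Finset.mem_range.mp hl))] at this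
  have hdi : dehom i (X i : MvPolynomial (Fin c) A) = 1 := by simp [dehom]
  have hdF : dehom i F = P₀ := by
    have h1 : dehom i F = dehom i P' := by
      conv_rhs => rw [← MvPolynomial.sum_homogeneousComponent P', map_sum]
      simp only [F, map_sum, map_mul, map_pow, hdi, one_pow, one_mul]
      rfl
    rw [h1]
    show dehom i (rename Subtype.val P₀) = P₀
    rw [dehom, aeval_rename]
    conv_rhs => rw [← aeval_X_left_apply P₀]
    refine congrFun (congrArg DFunLike.coe (congrArg aeval (funext fun j => ?_))) _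
    show (if h : (j : Fin c) = i then (1 : MvPolynomial {j // j ≠ i} A) else X ⟨j, h⟩) = X j
    rw [dif_neg j.2]
  have hev : ev f i P' = ev f i F := by rw [← ev_rename_dehom f i F, hdF]
  have key : sh f i ((f i) ^ m * eval f F) = sh f i ((f i) ^ (N + 1) * w) := by
    rw [map_mul, map_mul, ← pow_mul_ev f i hFhom, map_pow, map_pow,
      ← pow_mul_frac (sI f) (f i) (mem_pow_one f i) m w hw, ← hev]
    show _ = _
    rw [show ev f i P' = ev f i (rename Subtype.val P₀) from rfl, ← hz]
    ring
  replace key : sh f i ((f i) ^ m * eval f F - (f i) ^ (N + 1) * w) = 0 :=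
    (map_sub (sh f i) _ _).trans (sub_eq_zero.2 key)
  rw [sh, chartHom_apply] at key
  obtain ⟨k, hk⟩ := of_frac_eq_zero _ _ _ _ key
  let G : MvPolynomial (Fin c) A := X i ^ (k + m) * F
  have hG : G.IsHomogeneous (k + m + N) := by
    have := ((isHomogeneous_X A i).pow (k + m)).mul hFhom
    rwa [one_mul] at this
  have hGe : eval f G ∈ sI f ^ (k + m + N + 1) := by
    have he : eval f G = f i ^ (k + (N + 1)) * w := by
      rw [mul_sub, sub_eq_zero] at hk
      simp only [G, map_mul, map_pow, eval_X, pow_add, mul_assoc]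
      rw [hk]; ring
    rw [he, show k + m + N + 1 = (k + (N + 1)) + m by ring, pow_add (sI f)]
    exact Ideal.mul_mem_mul (Ideal.pow_mem_pow (Ideal.subset_span ⟨i, rfl⟩ : f i ∈ sI f) _) hw
  have hG0 : map (Ideal.Quotient.mk (sI f)) G = 0 := by
    ext d
    rw [coeff_map, coeff_zero, Ideal.Quotient.eq_zero_iff_mem]
    exact hf _ G hG hGe d
  have hd2 : dehom i G = P₀ := by
    simp only [G, map_mul, map_pow, hdi, one_pow, one_mul, hdF]
  rw [← hd2]
  have hcomm : ∀ Q : MvPolynomial (Fin c) A, map (Ideal.Quotient.mk (sI f)) (dehom i Q) =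
      eval₂Hom (C (σ := {j // j ≠ i})) (fun j => if h : j = i then 1 else X ⟨j, h⟩)
        (map (Ideal.Quotient.mk (sI f)) Q) := by
    intro Q
    induction Q using MvPolynomial.induction_on with
    | C r => simp [dehom]
    | add p q hp hq => simp only [map_add, hp, hq]
    | mul_X p j hp =>
      simp only [map_mul, hp]
      congr 1
      simp only [dehom, aeval_X, map_X, eval₂Hom_X']
      split_ifs <;> simp
  rw [hcomm, hG0, map_zero]

theorem frac_mem_range_ev (n : ℕ) (w : A) (hw : w ∈ sI f ^ n) :
    frac (sI f) (f i) (mem_pow_one f i) n w hw ∈ (ev f i).range := by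
  induction n generalizing w with
  | zero =>
    show ∃ x, ev f i x = _
    exact ⟨C w, by rw [ev, eval₂Hom_C, sh, chartHom_apply]⟩
  | succ n ih =>
    have hw' : w ∈ sI f ^ n * sI f := by rw [← pow_succ]; exact hw
    suffices h : ∃ hw'' : w ∈ sI f ^ (n + 1),
        frac (sI f) (f i) (mem_pow_one f i) (n + 1) w hw'' ∈ (ev f i).range from h.2
    refine Submodule.mul_induction_on hw' (fun a ha b hb => ?_) (fun a b ha hb => ?_)
    · have hb' : b ∈ sI f ^ 1 := by rwa [pow_one]
      refine ⟨by rw [pow_succ]; exact Ideal.mul_mem_mul ha hb, ?_⟩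
      have hb2 : frac (sI f) (f i) (mem_pow_one f i) 1 b hb' ∈ (ev f i).range := by
        obtain ⟨r, hr⟩ := (Ideal.mem_span_range_iff_exists_fun.1 hb : ∃ r : Fin c → A, ∑ j, r j * f j = b)
        refine ⟨∑ j, C (r j) * X j, ?_⟩
        refine (mul_cancel_left_mem_nonZeroDivisors
          (chartHom_nonZeroDivisor (sI f) (f i) (mem_pow_one f i))).1 ?_
        rw [← chartHom_eq (sI f) (f i) (mem_pow_one f i) b hb', ← hr, map_sum, map_sum,
          Finset.mul_sum]
        refine Finset.sum_congr rfl fun j _ => ?_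
        rw [map_mul, map_mul, ev, eval₂Hom_C, eval₂Hom_X',
          chartHom_eq (sI f) (f i) (mem_pow_one f i) (f j) (mem_pow_one f j)]
        ring
      have := mul_mem (ih a ha) hb2
      rw [frac_mul] at this
      exact this
    · obtain ⟨ha', hra⟩ := ha
      obtain ⟨hb', hrb⟩ := hb
      refine ⟨add_mem ha' hb', ?_⟩
      have hpow : sh f i (f i) ^ (n + 1) ∈ nonZeroDivisors (SC f i) :=
        pow_mem (chartHom_nonZeroDivisor (sI f) (f i) (mem_pow_one f i)) _
      rw [show frac (sI f) (f i) (mem_pow_one f i) (n + 1) (a + b) (add_mem ha' hb') =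
          frac (sI f) (f i) (mem_pow_one f i) (n + 1) a ha' +
            frac (sI f) (f i) (mem_pow_one f i) (n + 1) b hb' from
        (mul_cancel_left_mem_nonZeroDivisors hpow).1 (by
          rw [mul_add, pow_mul_frac, pow_mul_frac, pow_mul_frac, map_add])]
      exact add_mem hra hrb

theorem pres_surjective : Function.Surjective (pres f i) := by
  intro z
  obtain ⟨z, rfl⟩ := Ideal.Quotient.mk_surjective z
  obtain ⟨n, w, hw, rfl⟩ := frac_surjective (sI f) (f i) (mem_pow_one f i) z
  obtain ⟨Q, hQ⟩ := frac_mem_range_ev f i n w hw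
  exact ⟨map (Ideal.Quotient.mk (sI f)) (dehom i Q), by rw [pres_map, ev_rename_dehom, hQ]⟩

/-- The exceptional divisor of a chart is smooth over the centre. -/
theorem smooth_chart (hf : CAlgX.IsQuasiRegular f) :
    (Ideal.Quotient.lift (sI f) ((Ideal.Quotient.mk ((sI f).map (sh f i))).comp (sh f i))
      fun a ha => Ideal.Quotient.eq_zero_iff_mem.2 (Ideal.mem_map_of_mem _ ha)).Smooth := by
  have hC : (C : (A ⧸ sI f) →+* MvPolynomial {j // j ≠ i} (A ⧸ sI f)).Smooth :=
    RingHom.smooth_algebraMap.2 { formallySmooth := inferInstance, finitePresentation := inferInstance }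
  let e : MvPolynomial {j // j ≠ i} (A ⧸ sI f) ≃+* SC f i ⧸ (sI f).map (sh f i) :=
    RingEquiv.ofBijective (pres f i) ⟨pres_injective f i hf, pres_surjective f i⟩
  have he := RingHom.Smooth.respectsIso.1 C e hC
  convert he using 1
  refine RingHom.ext fun r => ?_
  show _ = pres f i (C r)
  rw [pres, eval₂Hom_C]

end Groth.L11.BlowSmooth
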